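import Mathlib
import Cfsg.Agent.Lib.Helper43.PlusInndiag
import Cfsg.Agent.Lib.Helper13.QuadExt

set_option autoImplicit false

/-!
# S2715: field automorphisms of `PΩ⁺_{2m}(F)` — base change of similarities of the hyperbolic form
-/

namespace Cfsg.Agent.Lib.Helper37.PlusField

open scoped MatrixGroups Matrix
open Module Matrix Cfsg.Agent.Lib.Helper45.PSLField Cfsg.Agent.Lib.Helper36 Cfsg.Agent.S2168
  Cfsg.Agent.Lib.Helper43 Cfsg.Agent.Lib.Helper13

variable {m : ℕ} {F : Type*} [Field F] {F₀ : Type*} [Field F₀]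

theorem plusQF_rvec (j : F₀ →+* F) (v : Fin m ⊕ Fin m → F₀) :
    plusQF m F (rvec j v) = j (plusQF m F₀ v) := by
  show Cfsg.quadFormPlus m F (rvec j v) = j (Cfsg.quadFormPlus m F₀ v)
  unfold Cfsg.quadFormPlus rvec
  rw [map_sum]
  simp only [map_mul]

theorem glMap_mem_quadSim_plus (j : F₀ →+* F) (A : GL (Fin m ⊕ Fin m) F₀)
    (hA : A ∈ Cfsg.Geo.quadSimilarityGroup (⇑(plusQF m F₀))) :
    Matrix.GeneralLinearGroup.map j A ∈ Cfsg.Geo.quadSimilarityGroup (⇑(plusQF m F)) := by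
  obtain ⟨c, hc⟩ := hA
  refine ⟨Units.map (j : F₀ →* F) c, fun w => ?_⟩
  exact similarity_extend' j (⇑(plusQF m F₀)) (plusQF m F) (plusQF_rvec j) _ (c : F₀) hc w

/-- base change of similarities along `j : F₀ →+* F` -/
noncomputable def subSimP (j : F₀ →+* F) :
    ↥(Cfsg.Geo.quadSimilarityGroup (⇑(plusQF m F₀))) →*
      ↥(Cfsg.Geo.quadSimilarityGroup (⇑(plusQF m F))) where
  toFun A := ⟨Matrix.GeneralLinearGroup.map j A.1, glMap_mem_quadSim_plus j A.1 A.2⟩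
  map_one' := by
    apply Subtype.ext
    show Matrix.GeneralLinearGroup.map j (1 : GL (Fin m ⊕ Fin m) F₀) = 1
    rw [map_one]
  map_mul' A B := by
    apply Subtype.ext
    show Matrix.GeneralLinearGroup.map j ((A : GL (Fin m ⊕ Fin m) F₀) * (B : GL (Fin m ⊕ Fin m) F₀)) = _
    rw [map_mul]
    rfl

theorem subSimP_coe (j : F₀ →+* F) (A : ↥(Cfsg.Geo.quadSimilarityGroup (⇑(plusQF m F₀)))) :
    (((subSimP j A : ↥(Cfsg.Geo.quadSimilarityGroup (⇑(plusQF m F)))) : GL (Fin m ⊕ Fin m) F) :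
      Matrix (Fin m ⊕ Fin m) (Fin m ⊕ Fin m) F) =
      ((A : GL (Fin m ⊕ Fin m) F₀) : Matrix (Fin m ⊕ Fin m) (Fin m ⊕ Fin m) F₀).map j := rfl

/-- the multiplier of a base-changed similarity -/
theorem subSimP_mult (j : F₀ →+* F) (A : ↥(Cfsg.Geo.quadSimilarityGroup (⇑(plusQF m F₀))))
    (c : F₀) (hc : ∀ v, plusQF m F₀ (((A : GL (Fin m ⊕ Fin m) F₀) :
      Matrix (Fin m ⊕ Fin m) (Fin m ⊕ Fin m) F₀) *ᵥ v) = c * plusQF m F₀ v) (w : Fin m ⊕ Fin m → F) :
    plusQF m F ((((subSimP j A : ↥(Cfsg.Geo.quadSimilarityGroup (⇑(plusQF m F)))) :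
      GL (Fin m ⊕ Fin m) F) : Matrix (Fin m ⊕ Fin m) (Fin m ⊕ Fin m) F) *ᵥ w) =
      j c * plusQF m F w :=
  similarity_extend' j (⇑(plusQF m F₀)) (plusQF m F) (plusQF_rvec j) _ c hc w

/-- the automorphisms of `PΩ⁺_{2m}(F)` coming from similarities over the subfield -/
noncomputable def subAutP (j : F₀ →+* F) :
    ↥(Cfsg.Geo.quadSimilarityGroup (⇑(plusQF m F₀))) →* MulAut (Cfsg.POmega F (⇑(plusQF m F))) :=
  (simAut (⇑(plusQF m F))).comp (subSimP j)

theorem subAutP_apply (j : F₀ →+* F) (A : ↥(Cfsg.Geo.quadSimilarityGroup (⇑(plusQF m F₀)))) :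
    subAutP j A = simAut (⇑(plusQF m F)) (subSimP j A) := rfl

/-- the standard field automorphism of `PΩ⁺_{2m}(F)` -/
noncomputable abbrev phiP (m : ℕ) {F : Type*} [Field F] (σ : RingAut F) :
    MulAut (Cfsg.POmega F (⇑(plusQF m F))) :=
  oField (fieldCompat_plusQF (m := m) (F := F)) σ

end Cfsg.Agent.Lib.Helper37.PlusField
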