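import Mathlib
import Cfsg.Agent.Lib.Helper37.PlusField.Defs
import Cfsg.Agent.Lib.Helper43.PlusInndiag
import Cfsg.Agent.Lib.Helper43.PlusGFOdd1
import Cfsg.Agent.Lib.Helper36.DicksonMatrix
import Cfsg.Agent.Lib.Helper36.PsoInn

set_option autoImplicit false

/-!
# S2715, characteristic two: the inner-diagonal group of `PΩ⁺_{2m}(F)` consists of inner
automorphisms (`m ≥ 4`, `F` finite of characteristic two)
-/

namespace Cfsg.Agent.Lib.Helper37.PlusField

open scoped MatrixGroups Matrix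
open Module Matrix Cfsg.Agent.Lib.Helper36 Cfsg.Agent.S2168 Cfsg.Agent.Lib.Helper43
open Cfsg.Agent.Lib.Helper13 hiding isoGroup mem_isoGroup

variable {m : ℕ} {F : Type*} [Field F]

theorem zmod2_add_one_eq_zero_iff (a : ZMod 2) : a + 1 = 0 ↔ a ≠ 0 := by
  revert a; decide

/-- reflections are odd -/
theorem not_plusEvenLin_of_mem_reflSet (T : (Fin m ⊕ Fin m → F) ≃ₗ[F] (Fin m ⊕ Fin m → F))
    (hT : T ∈ reflSet (plusQF m F)) : ¬ plusEvenLin T := by
  have h1 := finrank_inf_map_refl (plusQF m F) (plusQF_nondeg m F) (finrank_plus_space m F)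
    (stdPlus_ts m F) (finrank_stdPlus m F) _ hT
  unfold plusEvenLin
  rw [Nat.even_iff]
  omega

/-- in characteristic two, the class character on the group generated by the reflections is the
Dickson invariant -/
theorem plusEvenLin_iff_dick [CharP F 2]
    (k : (Fin m ⊕ Fin m → F) ≃ₗ[F] (Fin m ⊕ Fin m → F)) (hk : k ∈ reflGroup (plusQF m F)) :
    plusEvenLin k ↔ dick k = 0 := by
  have hQ := plusQF_nondeg m F
  have key : k ∈ isoGroup (plusQF m F) ∧ (plusEvenLin k ↔ dick k = 0) := by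
    unfold reflGroup at hk
    have step : ∀ (T : (Fin m ⊕ Fin m → F) ≃ₗ[F] (Fin m ⊕ Fin m → F)),
        T ∈ reflSet (plusQF m F) → ∀ y : (Fin m ⊕ Fin m → F) ≃ₗ[F] (Fin m ⊕ Fin m → F),
        (y ∈ isoGroup (plusQF m F) ∧ (plusEvenLin y ↔ dick y = 0)) →
        (y * T ∈ isoGroup (plusQF m F) ∧ (plusEvenLin (y * T) ↔ dick (y * T) = 0)) := by
      rintro T hT y ⟨hy, hyd⟩
      have hTi : T ∈ isoGroup (plusQF m F) := reflSet_subset_isoGroup _ hT
      refine ⟨Subgroup.mul_mem _ hy hTi, ?_⟩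
      rw [dick_mul_refl (plusQF m F) hQ y T hy hT, zmod2_add_one_eq_zero_iff,
        plusEvenLin_mul y T 1 1 (fun z => by rw [one_mul]; exact hy z)
          (fun z => by rw [one_mul]; exact hTi z)]
      have hTo := not_plusEvenLin_of_mem_reflSet T hT
      constructor
      · intro h1 h3
        exact hTo (h1.mp (hyd.mpr h3))
      · intro h1
        exact iff_of_false (fun h3 => h1 (hyd.mp h3)) hTo
    induction hk using Subgroup.closure_induction_right with
    | one =>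
      refine ⟨Subgroup.one_mem _, ?_⟩
      rw [dick_one]
      refine iff_of_true ?_ rfl
      unfold plusEvenLin
      have : (stdPlus m F).map (((1 : (Fin m ⊕ Fin m → F) ≃ₗ[F] (Fin m ⊕ Fin m → F))) :
          (Fin m ⊕ Fin m → F) →ₗ[F] (Fin m ⊕ Fin m → F)) = stdPlus m F := Submodule.map_id _
      rw [this, inf_idem, finrank_stdPlus, Nat.sub_self]
      exact ⟨0, rfl⟩
    | mul_right y _ T hT ih => exact step T hT y ih
    | mul_inv_cancel y _ T hT ih =>
      have hsq : T * T = 1 := refl_mul_self (plusQF m F) T hT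
      have hTinv : T⁻¹ = T := inv_eq_of_mul_eq_one_left hsq
      rw [hTinv]
      exact step T hT y ih
  exact key.2

variable [Fintype F]

/-- **[CH2]** in characteristic two every inner-diagonal automorphism of `PΩ⁺_{2m}(F)` is
inner -/
theorem inndiagPlusQ_le_Inn_of_two (hm : 4 ≤ m) (h2 : (2 : F) = 0) :
    inndiagPlusQ m F ≤ Cfsg.Inn (Cfsg.POmega F (⇑(plusQF m F))) := by
  classical
  have : CharP F 2 := CharTwo.of_one_ne_zero_of_two_eq_zero one_ne_zero h2
  have hchar : ringChar F = 2 := ringChar.eq F 2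
  have hsq : ∀ a : F, IsSquare a := fun a => FiniteField.isSquare_of_char_two hchar a
  have hQ := plusQF_nondeg m F
  intro β hβ
  obtain ⟨g, hgE, rfl⟩ := (mem_inndiagPlusQ_iff β).mp hβ
  obtain ⟨c, hc⟩ := g.2
  obtain ⟨t, ht⟩ := hsq (c : F)
  have ht0 : t ≠ 0 := by
    rintro rfl
    rw [mul_zero] at ht
    exact c.ne_zero ht
  obtain ⟨sb, hsb⟩ := exists_scalar_quadSim (plusQF m F) t⁻¹ (inv_ne_zero ht0)
  have hcoe : (((sb * g : ↥(Cfsg.Geo.quadSimilarityGroup (⇑(plusQF m F)))) :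
      GL (Fin m ⊕ Fin m) F) : Matrix (Fin m ⊕ Fin m) (Fin m ⊕ Fin m) F) =
      t⁻¹ • ((g : GL (Fin m ⊕ Fin m) F) : Matrix (Fin m ⊕ Fin m) (Fin m ⊕ Fin m) F) := by
    rw [Subgroup.coe_mul, Units.val_mul, hsb, Matrix.smul_mul, Matrix.one_mul]
  have hgO : ((sb * g : ↥(Cfsg.Geo.quadSimilarityGroup (⇑(plusQF m F)))) :
      GL (Fin m ⊕ Fin m) F) ∈ Cfsg.isometryGroup F (⇑(plusQF m F)) := by
    rw [mem_isometryGroup_iff']
    intro v
    rw [hcoe, Matrix.smul_mulVec, QuadraticMap.map_smul, hc v, ht, smul_eq_mul]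
    field_simp
  have hgE' : plusEven ((sb * g : ↥(Cfsg.Geo.quadSimilarityGroup (⇑(plusQF m F)))) :
      GL (Fin m ⊕ Fin m) F) :=
    (plusEven_scalar_mul sb g t⁻¹ (inv_ne_zero ht0) hsb).mpr hgE
  have hsim : simAut (⇑(plusQF m F)) (sb * g) = simAut (⇑(plusQF m F)) g := by
    rw [map_mul, simAut_eq_one_of_scalar (⇑(plusQF m F)) sb t⁻¹ hsb, one_mul]
  rw [← hsim]
  apply simAut_mem_Inn_of_mem
  rw [mem_OmegaGL_iff]
  refine ⟨hgO, ?_⟩
  have hcard : Fintype.card (Fin m ⊕ Fin m) ≠ 4 := by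
    rw [card_plus_index']; omega
  rw [mem_Omega_iff_even_rank (plusQF m F) hQ (Or.inr hcard) hsq, rank_sub_one_eq]
  have hiso : glLinEquiv (Fin m ⊕ Fin m) F ((sb * g :
      ↥(Cfsg.Geo.quadSimilarityGroup (⇑(plusQF m F)))) : GL (Fin m ⊕ Fin m) F) ∈
      Cfsg.Agent.Lib.Helper13.isoGroup (plusQF m F) :=
    (mem_isometryGroup_iff_isoGroup (plusQF m F) _).mp hgO
  have hF : (∀ a b : F, ∃ x : F, x ≠ a ∧ x ≠ b) ∨
      Module.finrank F (Fin m ⊕ Fin m → F) ≠ 4 := by
    right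
    rw [finrank_plus_space]; omega
  have hrefl := isoGroup_le_reflGroup (plusQF m F) hQ hF hiso
  have hd := (plusEvenLin_iff_dick _ hrefl).mp hgE'
  unfold dick at hd
  exact (ZMod.natCast_eq_zero_iff_even).mp hd

end Cfsg.Agent.Lib.Helper37.PlusField
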