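import Mathlib
import Cfsg.Agent.Lib.Helper37.PlusField.CH2
import Cfsg.Agent.Lib.Helper37.TriNormF
import Cfsg.Agent.Lib.Helper11.PlusFieldCent2
import Cfsg.Agent.Lib.Helper54.PlusFieldEvenBC
import Cfsg.Agent.Lib.Helper76.PlusFieldOdd
import Cfsg.Agent.Lib.Helper39.PlusFieldR2
import Cfsg.Agent.Lib.Helper43.OSplit
import Cfsg.Agent.Lib.Helper45.PSLField.Fixed
import Cfsg.Agent.Lib.Helper45.PSLField.SplitAbs

set_option autoImplicit false

/-!
# S2715: field automorphisms of prime order of `PΩ⁺_{2m}(F)`, `m ≥ 4` — assembly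
-/

namespace Cfsg.Agent.Lib.Helper37.PlusField

open scoped MatrixGroups Matrix
open Module Matrix Cfsg.Agent.Lib.Helper45.PSLField Cfsg.Agent.Lib.Helper36 Cfsg.Agent.S2168
  Cfsg.Agent.Lib.Helper43 Cfsg.Agent.Lib.Helper13

variable {m : ℕ} {F : Type*} [Field F] [Fintype F] {F₀ : Type*} [Field F₀] [Fintype F₀]

/-- the inner-diagonal group is normal in the automorphism group, all `m ≥ 4` -/
theorem conj_mem_inndiagPlusQ_all (hm : 4 ≤ m)
    (α δ : MulAut (Cfsg.POmega F (⇑(plusQF m F)))) (hδ : δ ∈ inndiagPlusQ m F) :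
    α * δ * α⁻¹ ∈ inndiagPlusQ m F := by
  rcases Nat.lt_or_ge m 5 with h | h
  · have h4 : m = 4 := by omega
    subst h4
    exact Cfsg.Agent.Lib.Helper37.Tri.conj_mem_inndiagPlusQ_four α δ hδ
  · exact conj_mem_inndiagPlusQ h α δ hδ

theorem two_eq_zero_of_card_two_pow {p f : ℕ} [Fact p.Prime] (hF : Fintype.card F = p ^ f)
    (hf : 1 ≤ f) (hp : p = 2) : (2 : F) = 0 := by
  subst hp
  have h1 : ringChar F = 2 := by
    rw [FiniteField.even_card_iff_char_two, hF]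
    exact Nat.even_iff.mp ((Nat.even_pow' (by omega)).mpr even_two)
  have h2 : ((ringChar F : ℕ) : F) = 0 := ringChar.Nat.cast_ringChar
  rw [h1] at h2
  exact_mod_cast h2

theorem two_ne_zero_of_card_odd_pow {p f : ℕ} [Fact p.Prime] (hF : Fintype.card F = p ^ f)
    (hp : p ≠ 2) : (2 : F) ≠ 0 := by
  intro h
  have h1 : ringChar F = 2 :=
    CharP.ringChar_of_prime_eq_zero Nat.prime_two (by exact_mod_cast h)
  rw [FiniteField.even_card_iff_char_two, hF] at h1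
  have hpp : p.Prime := Fact.out
  have h3 : Even (p ^ f) := Nat.even_iff.mpr h1
  exact hp ((Nat.Prime.even_iff hpp).mp (Nat.even_pow.mp h3).1)

/-- S2715 for the form `⇑(plusQF m F)` -/
theorem plus_field_centralizer_aux {p f : ℕ} [Fact p.Prime]
    (hF : Fintype.card F = p ^ f) (hf : 1 ≤ f) (hm : 4 ≤ m)
    (x : MulAut (Cfsg.POmega F (⇑(plusQF m F))))
    (hx : Cfsg.IsFieldAutClassPOmega (⇑(plusQF m F)) x) {r : ℕ} (hr : r.Prime)
    (hxr : orderOf x = r) (hF₀ : Fintype.card F₀ = p ^ (f / r)) :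
    r ∣ f ∧
    Nonempty (↥(inndiagPlusQ m F ⊓ Subgroup.centralizer {x}) ≃* ↥(inndiagPlusQ m F₀)) ∧
    ((Odd r ∨ p = 2) → Cfsg.splitClassCount (inndiagPlusQ m F)
      (Cfsg.Inn (Cfsg.POmega F (⇑(plusQF m F)))) x = 1) ∧
    ((r = 2 ∧ p ≠ 2 ∧ Odd m ∧ p ^ (f / 2) % 4 = 1) → Cfsg.splitClassCount (inndiagPlusQ m F)
      (Cfsg.Inn (Cfsg.POmega F (⇑(plusQF m F)))) x = 2) ∧
    ((r = 2 ∧ p ≠ 2 ∧ ¬ (Odd m ∧ p ^ (f / 2) % 4 = 1)) → Cfsg.splitClassCount (inndiagPlusQ m F)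
      (Cfsg.Inn (Cfsg.POmega F (⇑(plusQF m F)))) x = 4) := by
  classical
  have hQ : FieldCompat (⇑(plusQF m F)) := fieldCompat_plusQF
  have hker : OKernelProp hQ := oKernelProp_plusQF hm
  obtain ⟨α, σ, -, hα⟩ := exists_conj_eq_oField hQ hx
  have hσr : orderOf σ = r := by
    rw [← orderOf_oField hker σ, ← hα, orderOf_conj_o, hxr]
  obtain ⟨hrf, -⟩ := card_fixF hF σ hr.pos hσr
  obtain ⟨j, hj⟩ := exists_embedding_fixF hF σ hr.pos hσr F₀ hF₀
  have hH : ∀ h, h ∈ inndiagPlusQ m F ↔ α * h * α⁻¹ ∈ inndiagPlusQ m F := by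
    intro h
    constructor
    · intro hh
      exact conj_mem_inndiagPlusQ_all hm α h hh
    · intro hh
      have h3 := conj_mem_inndiagPlusQ_all hm α⁻¹ _ hh
      have h4 : α⁻¹ * (α * h * α⁻¹) * α⁻¹⁻¹ = h := by group
      rwa [h4] at h3
  have hK : ∀ k, k ∈ Cfsg.Inn (Cfsg.POmega F (⇑(plusQF m F))) ↔
      α * k * α⁻¹ ∈ Cfsg.Inn (Cfsg.POmega F (⇑(plusQF m F))) := by
    have hnorm : (Cfsg.Inn (Cfsg.POmega F (⇑(plusQF m F)))).Normal := Cfsg.innNormal _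
    intro k
    constructor
    · intro hk
      exact hnorm.conj_mem k hk α
    · intro hk
      have := hnorm.conj_mem _ hk α⁻¹
      have h3 : α⁻¹ * (α * k * α⁻¹) * α⁻¹⁻¹ = k := by group
      rwa [h3] at this
  refine ⟨hrf, ?_, ?_, ?_, ?_⟩
  · obtain ⟨e1⟩ := nonempty_centralizer_conj_equiv_abs (inndiagPlusQ m F) α x hH
    rw [hα] at e1
    obtain ⟨e2⟩ := Cfsg.Agent.Lib.Helper11.PlusField.nonempty_centralizer_equiv_plus hm j σ hr.pos hσr hj
    exact ⟨e1.trans e2⟩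
  · intro hcase
    rw [splitClassCount_conj _ _ α x hH hK, hα]
    by_cases hp : p = 2
    · have h2 : (2 : F) = 0 := two_eq_zero_of_card_two_pow hF hf hp
      apply splitClassCount_eq_one_of_cover
      intro a ha
      exact ⟨1, Subgroup.one_mem _, by rw [mul_one]; exact inndiagPlusQ_le_Inn_of_two hm h2 ha⟩
    · have hrodd : Odd r := hcase.resolve_right hp
      exact Cfsg.Agent.Lib.Helper76.PlusField.splitClassCount_phiP_of_odd hm (two_ne_zero_of_card_odd_pow hF hp) σ hrodd hσr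
  · rintro ⟨hr2, hp, hmodd, hq4⟩
    rw [splitClassCount_conj _ _ α x hH hK, hα]
    subst hr2
    have hcard : Fintype.card F = Fintype.card F₀ ^ 2 := by
      rw [hF, hF₀, ← pow_mul]
      congr 1
      exact (Nat.div_mul_cancel hrf).symm
    exact (Cfsg.Agent.Lib.Helper39.PlusField.splitClassCount_phiP_two_of hm (two_ne_zero_of_card_odd_pow hF hp) σ j hcard (fun A hA => Cfsg.Agent.Lib.Helper54.PlusField.plusEven_map_iff j A hA) (fun β => Cfsg.Agent.Lib.Helper11.PlusField.mem_inndiag_centralizer_iff hm j σ two_pos hσr hj β)).1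
      ⟨hmodd, by rw [hF₀]; exact hq4⟩
  · rintro ⟨hr2, hp, hnot⟩
    rw [splitClassCount_conj _ _ α x hH hK, hα]
    subst hr2
    have hcard : Fintype.card F = Fintype.card F₀ ^ 2 := by
      rw [hF, hF₀, ← pow_mul]
      congr 1
      exact (Nat.div_mul_cancel hrf).symm
    exact (Cfsg.Agent.Lib.Helper39.PlusField.splitClassCount_phiP_two_of hm (two_ne_zero_of_card_odd_pow hF hp) σ j hcard (fun A hA => Cfsg.Agent.Lib.Helper54.PlusField.plusEven_map_iff j A hA) (fun β => Cfsg.Agent.Lib.Helper11.PlusField.mem_inndiag_centralizer_iff hm j σ two_pos hσr hj β)).2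
      (fun h => hnot ⟨h.1, by rw [← hF₀]; exact h.2⟩)

/-- **S2715** -/
theorem plus_field_centralizer_main {p f : ℕ} [Fact p.Prime]
    (hF : Fintype.card F = p ^ f) (hf : 1 ≤ f) (hm : 4 ≤ m)
    (x : MulAut (Cfsg.POmega F (Cfsg.quadFormPlus m F)))
    (hx : Cfsg.IsFieldAutClassPOmega (Cfsg.quadFormPlus m F) x) {r : ℕ} (hr : r.Prime)
    (hxr : orderOf x = r) (hF₀ : Fintype.card F₀ = p ^ (f / r)) :
    r ∣ f ∧
    Nonempty (↥(Cfsg.inndiagPOmegaPlus m F ⊓ Subgroup.centralizer {x}) ≃*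
      ↥(Cfsg.inndiagPOmegaPlus m F₀)) ∧
    ((Odd r ∨ p = 2) → Cfsg.splitClassCount (Cfsg.inndiagPOmegaPlus m F)
      (Cfsg.Inn (Cfsg.POmega F (Cfsg.quadFormPlus m F))) x = 1) ∧
    ((r = 2 ∧ p ≠ 2 ∧ Odd m ∧ p ^ (f / 2) % 4 = 1) →
      Cfsg.splitClassCount (Cfsg.inndiagPOmegaPlus m F)
        (Cfsg.Inn (Cfsg.POmega F (Cfsg.quadFormPlus m F))) x = 2) ∧
    ((r = 2 ∧ p ≠ 2 ∧ ¬ (Odd m ∧ p ^ (f / 2) % 4 = 1)) →
      Cfsg.splitClassCount (Cfsg.inndiagPOmegaPlus m F)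
        (Cfsg.Inn (Cfsg.POmega F (Cfsg.quadFormPlus m F))) x = 4) :=
  plus_field_centralizer_aux hF hf hm x hx hr hxr hF₀

end Cfsg.Agent.Lib.Helper37.PlusField
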